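import Groth.Agent.H10Coh.Secant.Pull
import Groth.Agent.H10Coh.FreeSec.BaseChange
import Groth.Agent.H27HilbOps.Basic

/-!
# The fibre of a tautological sheaf at a rational point
-/

set_option autoImplicit false
set_option linter.style.haveILetI false
set_option backward.isDefEq.respectTransparency.types false

noncomputable section

universe u

open CategoryTheory CategoryTheory.Limits AlgebraicGeometry Opposite TopologicalSpace

local notation "pull" => Scheme.Modules.pullback
local notation "push" => Scheme.Modules.pushforward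

namespace Groth.Agent.H10Coh.Secant

section BC

variable {X S X' S' : Scheme.{u}} {f : X ⟶ S} {g : S' ⟶ S} {g' : X' ⟶ X} {f' : X' ⟶ S'}

theorem bc_app (h : IsPullback g' f' f g) (M : X.Modules) (x : Γ(M, (⊤ : X.Opens))) :
    (FreeSec.BC.bc h M).app (⊤ : S'.Opens) (OmegaSh.pullSect g ((push f).obj M) ⊤ x) =
      OmegaSh.pullSect g' M ⊤ x := by
  refine (transpose_app g (CohBC.bc0Adj f g f' g' h.w M) x).trans ?_
  show ((pull g').obj M).presheaf.map (eqToHom (rfl : (⊤ : X'.Opens) = ⊤)).op (OmegaSh.pullSect g' M ⊤ x) = _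
  rw [eqToHom_refl, op_id, CategoryTheory.Functor.map_id]
  rfl

end BC

section Transport

variable {X W W' : Scheme.{u}}

theorem pullSect_iso_comp_iff (e : W ≅ W') (j : W' ⟶ X) (L : X.Modules) (x : Γ(L, (⊤ : X.Opens))) :
    OmegaSh.pullSect (e.hom ≫ j) L ⊤ x = 0 ↔ OmegaSh.pullSect j L ⊤ x = 0 := by
  rw [pullSect_comp_eq_zero_iff]
  have hb : Function.Bijective (OmegaSh.pullSect e.hom ((pull j).obj L) ⊤) :=
    H17.PullSect.bijective_pullSect e.hom _ (fun y _ => e.hom.surjective y)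
  exact ⟨fun h => hb.1 (h.trans (map_zero _).symm), fun h => (congrArg _ h).trans (map_zero _)⟩

theorem surjective_iso_comp_iff (e : W ≅ W') (j : W' ⟶ X) (L : X.Modules) :
    Function.Surjective (OmegaSh.pullSect (e.hom ≫ j) L ⊤) ↔ Function.Surjective (OmegaSh.pullSect j L ⊤) := by
  have hc := H17.PullSect.bijective_app ((Scheme.Modules.pullbackComp e.hom j).inv.app L) ((e.hom ≫ j) ⁻¹ᵁ ⊤)
  have hb : Function.Bijective (OmegaSh.pullSect e.hom ((pull j).obj L) ⊤) :=
    H17.PullSect.bijective_pullSect e.hom _ (fun y _ => e.hom.surjective y)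
  have key := H17.PullSect.pullSect_comp e.hom j L ⊤
  constructor
  · intro h z
    obtain ⟨y, hy⟩ := hc.2 (OmegaSh.pullSect e.hom ((pull j).obj L) ⊤ z)
    obtain ⟨x, rfl⟩ := h y
    exact ⟨x, hb.1 ((key x).symm.trans hy)⟩
  · intro h z
    obtain ⟨y, hy⟩ := hb.2 (((Scheme.Modules.pullbackComp e.hom j).inv.app L).app ((e.hom ≫ j) ⁻¹ᵁ ⊤) z)
    obtain ⟨x, rfl⟩ := h y
    exact ⟨x, hc.1 ((key x).trans hy)⟩

theorem pullSect_congr_iff {j j' : W ⟶ X} (h : j = j') (L : X.Modules) (x : Γ(L, (⊤ : X.Opens))) :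
    OmegaSh.pullSect j L ⊤ x = 0 ↔ OmegaSh.pullSect j' L ⊤ x = 0 := by subst h; rfl

/-- The isomorphism onto the subscheme cut out by the kernel of a closed immersion. -/
theorem exists_iso_ker_subscheme (j : W ⟶ X) [IsClosedImmersion j] :
    ∃ e : W ≅ j.ker.subscheme, e.hom ≫ j.ker.subschemeι = j :=
  ⟨asIso j.toImage, j.toImage_imageι⟩

end Transport

section Fibre

variable {k : Type u} [Field k] {X : Scheme.{u}} (f : X ⟶ Spec (CommRingCat.of k))
  {H : Over (Spec (CommRingCat.of k))} {d : ℕ} (Z : HilbD.Obj f d H)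

/-- The base field as a test scheme. -/
abbrev basePt : Over (Spec (CommRingCat.of k)) := Over.mk (𝟙 (Spec (CommRingCat.of k)))

/-- A rational point as a morphism of schemes over the field. -/
abbrev ptHom (t : Spec (CommRingCat.of k) ⟶ H.left) (ht : t ≫ H.hom = 𝟙 _) : basePt ⟶ H := Over.homMk t ht

/-- The subscheme of `X` belonging to a rational point of the Hilbert scheme. -/
def fibIdeal (t : Spec (CommRingCat.of k) ⟶ H.left) (ht : t ≫ H.hom = 𝟙 _) : X.IdealSheafData :=
  ((HilbD.pull f (ptHom t ht) Z.1).subschemeι ≫ pullback.fst f (basePt (k := k)).hom).ker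

instance isIso_fst_basePt : IsIso (pullback.fst f (basePt (k := k)).hom) := by
  show IsIso (pullback.fst f (𝟙 _))
  infer_instance

theorem exists_fibIdeal_iso (t : Spec (CommRingCat.of k) ⟶ H.left) (ht : t ≫ H.hom = 𝟙 _) :
    ∃ e : (HilbD.pull f (ptHom t ht) Z.1).subscheme ≅ (fibIdeal f Z t ht).subscheme,
      e.hom ≫ (fibIdeal f Z t ht).subschemeι =
        (HilbD.pull f (ptHom t ht) Z.1).subschemeι ≫ pullback.fst f (basePt (k := k)).hom :=
  exists_iso_ker_subscheme _

theorem fibIdeal_deg (t : Spec (CommRingCat.of k) ⟶ H.left) (ht : t ≫ H.hom = 𝟙 _) :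
    Mor2.IsFinLocFreeOfDeg d ((fibIdeal f Z t ht).subschemeι ≫ f) := by
  obtain ⟨e, he⟩ := exists_fibIdeal_iso f Z t ht
  have h0 := H27HilbOps.isFinLocFreeOfDeg_pull f (ptHom t ht) Z.1 Z.2
  have heq : (fibIdeal f Z t ht).subschemeι ≫ f =
      e.inv ≫ ((HilbD.pull f (ptHom t ht) Z.1).subschemeι ≫ PicF.XTproj f (basePt (k := k))) := by
    rw [← cancel_epi e.hom, reassoc_of% he, e.hom_inv_id_assoc, pullback.condition]
    exact congrArg _ (Category.comp_id _)
  rw [heq]
  obtain ⟨⟨h1, h2, h3⟩, h4⟩ := h0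
  haveI := h1
  haveI := h2
  haveI := h3
  exact ⟨⟨inferInstance, inferInstance, inferInstance⟩, fun y => by
    rw [Scheme.Hom.finrank_comp_left_of_isIso, h4 y]⟩

theorem fibIdeal_injective (hU : HilbD.IsUniversal f d H Z) (t t' : Spec (CommRingCat.of k) ⟶ H.left)
    (ht : t ≫ H.hom = 𝟙 _) (ht' : t' ≫ H.hom = 𝟙 _) (h : fibIdeal f Z t ht = fibIdeal f Z t' ht') : t = t' := by
  let φ := pullback.fst f (basePt (k := k)).hom
  have key : ∀ I : (PicF.XT f (basePt (k := k))).IdealSheafData, I = ((I.subschemeι ≫ φ).ker).map (inv φ) := by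
    intro I
    rw [← Scheme.Hom.ker_comp, Category.assoc, IsIso.hom_inv_id, Category.comp_id,
      Scheme.IdealSheafData.ker_subschemeι]
  have h' : HilbD.pull f (ptHom t ht) Z.1 = HilbD.pull f (ptHom t' ht') Z.1 :=
    (key _).trans ((congrArg (fun J : X.IdealSheafData => J.map (inv φ)) h).trans (key _).symm)
  exact congrArg CommaMorphism.left
    ((hU basePt (H27HilbOps.pullObj f (ptHom t ht) Z)).unique rfl h'.symm :)

theorem isQuasicoherent_taut [IsSeparated f] (L : X.Modules) [L.IsQuasicoherent] :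
    (TautSh.taut f H Z.1 L).IsQuasicoherent := by
  haveI : IsFinite (TautSh.famToH f H Z.1) := Z.2.1.1
  haveI : ((pull (TautSh.famToX f H Z.1)).obj L).IsQuasicoherent :=
    H29Fitt.isQCoh_pullback (TautSh.famToX f H Z.1) L ‹L.IsQuasicoherent›
  exact H10Coh.isQuasicoherent_pushforward_of_isAffineHom (TautSh.famToH f H Z.1) _

/-- Sections of the tautological sheaf at a rational point are sections on the subscheme. -/
theorem fibre_spec (L : X.Modules) [L.IsQuasicoherent] (t : Spec (CommRingCat.of k) ⟶ H.left)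
    (ht : t ≫ H.hom = 𝟙 _) :
    (∀ x : Γ(L, (⊤ : X.Opens)),
      OmegaSh.pullSect t (TautSh.taut f H Z.1 L) ⊤ (OmegaSh.pullSect (TautSh.famToX f H Z.1) L ⊤ x) = 0 ↔
        TautSh.resSect (fibIdeal f Z t ht) L x = 0) ∧
      (Function.Surjective (TautSh.resSect (fibIdeal f Z t ht) L) → Function.Surjective fun x : Γ(L, (⊤ : X.Opens)) =>
        OmegaSh.pullSect t (TautSh.taut f H Z.1 L) ⊤ (OmegaSh.pullSect (TautSh.famToX f H Z.1) L ⊤ x)) := by
  obtain ⟨a, ha⟩ := H27HilbOps.exists_isPullback_pull f (ptHom t ht) Z.1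
  have hsq := ha.paste_vert (H27HilbOps.isPullback_XTmap f (ptHom t ht))
  obtain ⟨e, he⟩ := exists_fibIdeal_iso f Z t ht
  haveI : IsFinite (TautSh.famToH f H Z.1) := Z.2.1.1
  haveI : ((pull (TautSh.famToX f H Z.1)).obj L).IsQuasicoherent :=
    H29Fitt.isQCoh_pullback (TautSh.famToX f H Z.1) L ‹L.IsQuasicoherent›
  haveI : IsIso (FreeSec.BC.bc hsq ((pull (TautSh.famToX f H Z.1)).obj L)) := FreeSec.BC.isIso_bc_of_isAffineHom hsq _
  have hb := H17.PullSect.bijective_app (FreeSec.BC.bc hsq ((pull (TautSh.famToX f H Z.1)).obj L))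
    (⊤ : (Spec (CommRingCat.of k)).Opens)
  have hcomp : a ≫ TautSh.famToX f H Z.1 = e.hom ≫ (fibIdeal f Z t ht).subschemeι := by
    rw [he]
    show a ≫ Z.1.subschemeι ≫ pullback.fst f H.hom = _
    rw [reassoc_of% ha.w]
    exact congrArg _ ((pullback.lift_fst _ _ _).trans (Category.comp_id _))
  refine ⟨fun x => ?_, fun hs z => ?_⟩
  · have h1 := bc_app hsq ((pull (TautSh.famToX f H Z.1)).obj L) (OmegaSh.pullSect (TautSh.famToX f H Z.1) L ⊤ x)
    refine Iff.trans ⟨fun h0 => ?_, fun h0 => ?_⟩ ((pullSect_comp_eq_zero_iff a (TautSh.famToX f H Z.1) L x).symm.trans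
      ((pullSect_congr_iff hcomp L x).trans (pullSect_iso_comp_iff e _ L x)))
    · exact h1.symm.trans ((congrArg _ h0).trans (map_zero _))
    · exact hb.1 ((h1.trans h0).trans (map_zero _).symm)
  · have hs' : Function.Surjective (OmegaSh.pullSect (a ≫ TautSh.famToX f H Z.1) L ⊤) := by
      have := (surjective_iso_comp_iff e (fibIdeal f Z t ht).subschemeι L).2 hs
      clear hs
      generalize a ≫ TautSh.famToX f H Z.1 = w at hcomp ⊢
      subst hcomp
      exact this
    have hc := H17.PullSect.bijective_app ((Scheme.Modules.pullbackComp a (TautSh.famToX f H Z.1)).inv.app L)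
      ((a ≫ TautSh.famToX f H Z.1) ⁻¹ᵁ ⊤)
    obtain ⟨w, hw⟩ := hc.2 ((FreeSec.BC.bc hsq ((pull (TautSh.famToX f H Z.1)).obj L)).app ⊤ z)
    obtain ⟨x, rfl⟩ := hs' w
    refine ⟨x, hb.1 ?_⟩
    exact (bc_app hsq _ _).trans ((H17.PullSect.pullSect_comp a (TautSh.famToX f H Z.1) L ⊤ x).symm.trans hw)

end Fibre

end Groth.Agent.H10Coh.Secant
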