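import Groth.Agent.H27HilbOps.Union
import Mathlib

/-!
# Finite subschemes of a scheme over a field and their lengths
-/

set_option autoImplicit false
set_option linter.style.haveILetI false
set_option backward.isDefEq.respectTransparency.types false

noncomputable section

universe u

open CategoryTheory CategoryTheory.Limits AlgebraicGeometry TopologicalSpace

namespace Groth.Agent.H10Coh.Secant

variable {k : Type u} [Field k]

/-- The ring map of the structure morphism on global functions. -/
def baseMap {A : Scheme.{u}} (a : A ⟶ Spec (CommRingCat.of k)) : CommRingCat.of k ⟶ Γ(A, ⊤) :=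
  (Scheme.ΓSpecIso (CommRingCat.of k)).inv ≫ a.appTop

/-- The dimension of the space of global functions. -/
def len {A : Scheme.{u}} (a : A ⟶ Spec (CommRingCat.of k)) : ℕ :=
  letI := (baseMap a).hom.toAlgebra
  Module.finrank k Γ(A, ⊤)

theorem eq_isoSpec_comp {A : Scheme.{u}} [IsAffine A] (a : A ⟶ Spec (CommRingCat.of k)) :
    a = A.isoSpec.hom ≫ Spec.map (baseMap a) := by
  rw [baseMap, Spec.map_comp, ← Category.assoc, Scheme.isoSpec_hom_naturality, Category.assoc,
    Scheme.isoSpec_Spec_hom]
  simp [← Spec.map_comp]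

theorem finite_baseMap {A : Scheme.{u}} (a : A ⟶ Spec (CommRingCat.of k)) [IsFinite a] :
    (baseMap a).hom.Finite := by
  haveI : IsAffine A := isAffine_of_isAffineHom a
  rw [← IsFinite.SpecMap_iff]
  have h : Spec.map (baseMap a) = A.isoSpec.inv ≫ a := by
    rw [Iso.eq_inv_comp, ← eq_isoSpec_comp]
  rw [h]
  infer_instance

theorem finrank_eq_len {A : Scheme.{u}} (a : A ⟶ Spec (CommRingCat.of k)) [IsFinite a]
    (y : Spec (CommRingCat.of k)) : a.finrank y = len a := by
  haveI : IsAffine A := isAffine_of_isAffineHom a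
  have hfin := finite_baseMap a
  have hfl : (baseMap a).hom.Flat := by
    letI := (baseMap a).hom.toAlgebra
    exact Module.Flat.of_free
  haveI : IsFinite (Spec.map (baseMap a)) := (IsFinite.SpecMap_iff _).2 hfin
  haveI : Flat (Spec.map (baseMap a)) := Flat.SpecMap_iff.2 hfl
  conv_lhs => rw [eq_isoSpec_comp a]
  rw [Scheme.Hom.finrank_comp_left_of_isIso, Scheme.Hom.finrank_SpecMap_eq_finrank hfin hfl]
  simp only [RingHom.finrank]
  letI := (baseMap a).hom.toAlgebra
  haveI : Module.Finite k Γ(A, ⊤) := hfin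
  exact Module.rankAtStalk_eq_finrank_of_free (R := k) (M := Γ(A, ⊤)) ▸ rfl

theorem deg_iff {A : Scheme.{u}} {d : ℕ} (a : A ⟶ Spec (CommRingCat.of k)) :
    Mor2.IsFinLocFreeOfDeg d a ↔ IsFinite a ∧ len a = d := by
  constructor
  · rintro ⟨⟨h1, -, -⟩, h4⟩
    haveI := h1
    exact ⟨h1, by rw [← finrank_eq_len a (default : PrimeSpectrum k)]; exact h4 _⟩
  · rintro ⟨h1, h2⟩
    haveI := h1
    exact ⟨H27HilbOps.Union.isFinLocFree_field a, fun y => by rw [finrank_eq_len a y, h2]⟩

section Maps

variable {A B : Scheme.{u}} {a : A ⟶ Spec (CommRingCat.of k)} {b : B ⟶ Spec (CommRingCat.of k)} (g : A ⟶ B)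

theorem baseMap_comp (hg : g ≫ b = a) : baseMap b ≫ g.appTop = baseMap a := by
  subst hg
  simp [baseMap]

theorem len_le_of_surjective [IsFinite b] (hg : g ≫ b = a) (h : Function.Surjective g.appTop) :
    len a ≤ len b ∧ (len a = len b → Function.Injective g.appTop) := by
  letI := (baseMap a).hom.toAlgebra
  letI := (baseMap b).hom.toAlgebra
  haveI : Module.Finite k Γ(B, ⊤) := finite_baseMap b
  let l : Γ(B, ⊤) →ₗ[k] Γ(A, ⊤) :=
    { toFun := g.appTop, map_add' := map_add _, map_smul' := fun c x => by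
        rw [Algebra.smul_def, Algebra.smul_def, map_mul]
        exact congrArg (· * _) congr($(baseMap_comp g hg) c) }
  haveI : Module.Finite k Γ(A, ⊤) := Module.Finite.of_surjective l h
  refine ⟨LinearMap.finrank_le_finrank_of_surjective (f := l) h, fun he => ?_⟩
  exact ((LinearMap.injective_iff_surjective_of_finrank_eq_finrank (f := l) he.symm).2 h :)

theorem len_le_of_injective [IsFinite a] (hg : g ≫ b = a) (h : Function.Injective g.appTop) : len b ≤ len a := by
  letI := (baseMap a).hom.toAlgebra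
  letI := (baseMap b).hom.toAlgebra
  haveI : Module.Finite k Γ(A, ⊤) := finite_baseMap a
  let l : Γ(B, ⊤) →ₗ[k] Γ(A, ⊤) :=
    { toFun := g.appTop, map_add' := map_add _, map_smul' := fun c x => by
        rw [Algebra.smul_def, Algebra.smul_def, map_mul]
        exact congrArg (· * _) congr($(baseMap_comp g hg) c) }
  exact LinearMap.finrank_le_finrank_of_injective (f := l) h

end Maps

theorem appTop_toImage_injective {A Y : Scheme.{u}} (f : A ⟶ Y) [QuasiCompact f] :
    Function.Injective f.toImage.appTop := by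
  intro s t hst
  refine f.image.sheaf.eq_of_locally_eq' (fun U : Y.affineOpens => f.imageι ⁻¹ᵁ U.1) ⊤
    (fun U => homOfLE le_top) ?_ s t fun U => f.toImage_app_injective U ?_
  · intro x _
    obtain ⟨V, hV, hx, -⟩ := exists_isAffineOpen_mem_and_subset (U := ⊤) (x := f.imageι x) trivial
    exact TopologicalSpace.Opens.mem_iSup.2 ⟨⟨V, hV⟩, hx⟩
  · have h := fun s => congr($(f.toImage.naturality (homOfLE (le_top : f.imageι ⁻¹ᵁ U.1 ≤ ⊤)).op) s)
    exact (h s).trans ((congrArg _ hst).trans (h t).symm)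

section Subschemes

variable {X : Scheme.{u}} (f : X ⟶ Spec (CommRingCat.of k))

/-- A closed subscheme finite over the base field. -/
def FinSub (J : X.IdealSheafData) : Prop := IsFinite (J.subschemeι ≫ f)

/-- The length of a closed subscheme. -/
def slen (J : X.IdealSheafData) : ℕ := len (J.subschemeι ≫ f)

theorem deg_iff_slen {J : X.IdealSheafData} {d : ℕ} :
    Mor2.IsFinLocFreeOfDeg d (J.subschemeι ≫ f) ↔ FinSub f J ∧ slen f J = d := deg_iff _

variable {f}

instance isClosedImmersion_inclusion {J J' : X.IdealSheafData} (h : J ≤ J') :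
    IsClosedImmersion (Scheme.IdealSheafData.inclusion h) := by
  haveI : IsClosedImmersion (Scheme.IdealSheafData.inclusion h ≫ J.subschemeι) := by
    rw [Scheme.IdealSheafData.inclusion_subschemeι]; infer_instance
  exact IsClosedImmersion.of_comp _ J.subschemeι

theorem FinSub.isAffine {J : X.IdealSheafData} (hJ : FinSub f J) : IsAffine J.subscheme :=
  haveI : IsFinite (J.subschemeι ≫ f) := hJ
  isAffine_of_isAffineHom (J.subschemeι ≫ f)

theorem FinSub.of_le {J J' : X.IdealSheafData} (hJ : FinSub f J) (h : J ≤ J') : FinSub f J' := by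
  haveI : IsFinite (J.subschemeι ≫ f) := hJ
  show IsFinite (J'.subschemeι ≫ f)
  rw [← Scheme.IdealSheafData.inclusion_subschemeι h, Category.assoc]
  infer_instance

theorem slen_le {J J' : X.IdealSheafData} (hJ : FinSub f J) (h : J ≤ J') :
    slen f J' ≤ slen f J ∧ (slen f J' = slen f J → J = J') := by
  haveI : IsFinite (J.subschemeι ≫ f) := hJ
  haveI := hJ.isAffine
  let g := Scheme.IdealSheafData.inclusion h
  have hs : Function.Surjective g.appTop := (IsClosedImmersion.isAffine_surjective_of_isAffine g).2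
  have key := len_le_of_surjective g (a := J'.subschemeι ≫ f) (b := J.subschemeι ≫ f)
    (Scheme.IdealSheafData.inclusion_subschemeι_assoc h f) hs
  refine ⟨key.1, fun he => le_antisymm h ?_⟩
  haveI : IsAffine J'.subscheme := (hJ.of_le h).isAffine
  haveI : IsIso g.appTop := (ConcreteCategory.isIso_iff_bijective _).2 ⟨key.2 he, hs⟩
  haveI : IsIso g := by
    have : g = J'.subscheme.isoSpec.hom ≫ Spec.map g.appTop ≫ J.subscheme.isoSpec.inv := by
      rw [Scheme.isoSpec_hom_naturality_assoc, Iso.hom_inv_id, Category.comp_id]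
    rw [this]; infer_instance
  rw [← J.ker_subschemeι, ← J'.ker_subschemeι, ← Scheme.IdealSheafData.inclusion_subschemeι h,
    Scheme.Hom.ker_comp_of_isIso]

theorem FinSub.inf [IsProper f] {J₁ J₂ : X.IdealSheafData} (h₁ : FinSub f J₁) (h₂ : FinSub f J₂) :
    FinSub f (J₁ ⊓ J₂) ∧ slen f (J₁ ⊓ J₂) ≤ slen f J₁ + slen f J₂ := by
  haveI : IsFinite (J₁.subschemeι ≫ f) := h₁
  haveI : IsFinite (J₂.subschemeι ≫ f) := h₂
  let D := coprod.desc J₁.subschemeι J₂.subschemeι
  have hD : D.ker = J₁ ⊓ J₂ := by
    rw [H27HilbOps.Union.ker_desc, Scheme.IdealSheafData.ker_subschemeι, Scheme.IdealSheafData.ker_subschemeι]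
  haveI hfd : IsFinite (D ≫ f) := by
    rw [coprod.desc_comp]; infer_instance
  haveI : QuasiCompact D := QuasiCompact.of_comp _ f
  obtain ⟨hfin, hle⟩ : FinSub f D.ker ∧ slen f D.ker ≤ len (D ≫ f) := by
    have hcomp : D.toImage ≫ D.imageι ≫ f = D ≫ f := by rw [Scheme.Hom.toImage_imageι_assoc]
    haveI : IsFinite (D.toImage ≫ D.imageι ≫ f) := hcomp.symm ▸ hfd
    have hr : Set.range D.toImage = Set.univ := by
      have hcl : IsClosed (Set.range D.toImage) := by
        haveI : IsProper (D.toImage ≫ D.imageι ≫ f) := inferInstance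
        haveI : IsProper D.toImage := IsProper.of_comp D.toImage (D.imageι ≫ f)
        exact D.toImage.isClosedMap.isClosed_range
      have := D.toImage.denseRange
      rw [← hcl.closure_eq]; exact this.closure_range
    have hfin : IsFinite (D.imageι ≫ f) := by
      rw [IsFinite.iff_isProper_and_locallyQuasiFinite]
      refine ⟨inferInstance, LocallyQuasiFinite.of_finite_preimage_singleton _ fun x => ?_⟩
      refine (((D.toImage ≫ D.imageι ≫ f).finite_preimage_singleton x).image D.toImage).subset fun z hz => ?_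
      obtain ⟨w, rfl⟩ := hr.ge (Set.mem_univ z)
      exact ⟨w, hz, rfl⟩
    exact ⟨hfin, len_le_of_injective D.toImage hcomp (appTop_toImage_injective D)⟩
  rw [hD] at hfin hle
  refine ⟨hfin, hle.trans ?_⟩
  rw [← finrank_eq_len _ (default : PrimeSpectrum k)]
  have := H27HilbOps.Union.finrank_desc_field (J₁.subschemeι ≫ f) (J₂.subschemeι ≫ f) (default : PrimeSpectrum k)
  rw [← coprod.desc_comp] at this
  rw [this, finrank_eq_len, finrank_eq_len]
  rfl

/-- Adding a rational point outside of a finite subscheme. -/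
theorem exists_le_succ [IsSeparated f] {J : X.IdealSheafData} (hJ : FinSub f J) (p : Spec (CommRingCat.of k) ⟶ X)
    (hp : p ≫ f = 𝟙 _) (hps : p (default : PrimeSpectrum k) ∉ (J.support : Set X)) :
    ∃ J', J' ≤ J ∧ FinSub f J' ∧ slen f J' = slen f J + 1 := by
  haveI : IsFinite (J.subschemeι ≫ f) := hJ
  haveI : IsClosedImmersion (p ≫ f) := by rw [hp]; infer_instance
  haveI : IsClosedImmersion p := IsClosedImmersion.of_comp p f
  have hP : Mor2.IsFinLocFreeOfDeg 1 (p.ker.subschemeι ≫ f) := by
    haveI : IsIso (p.ker.subschemeι ≫ f) := by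
      have : p.toImage ≫ p.imageι ≫ f = 𝟙 _ := by rw [Scheme.Hom.toImage_imageι_assoc, hp]
      rw [show p.ker.subschemeι ≫ f = inv p.toImage by rw [← cancel_epi p.toImage, this, IsIso.hom_inv_id]]
      infer_instance
    exact H27HilbOne.isFinLocFreeOfDeg_one_of_isIso _
  obtain ⟨hP1, hP2⟩ := (deg_iff_slen f).1 hP
  haveI : IsFinite (p.ker.subschemeι ≫ f) := hP1
  have hne : ∀ a b, J.subschemeι a ≠ p.ker.subschemeι b := fun a b e => by
    apply hps
    obtain ⟨w, rfl⟩ : ∃ w, p.toImage w = b := p.toImage.surjective b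
    have h1 : p.ker.subschemeι (p.toImage w) = p w := by
      rw [← Scheme.Hom.comp_apply]; exact congr($(p.toImage_imageι) w)
    have hw : w = (default : PrimeSpectrum k) := Subsingleton.elim (α := PrimeSpectrum k) _ _
    rw [← hw, ← h1, ← e]
    exact J.range_subschemeι.subset ⟨a, rfl⟩
  obtain ⟨e, he⟩ := H27HilbOps.Union.exists_iso hne
  refine ⟨J * p.ker, (H27HilbOps.Union.mul_eq_inf (H27HilbOps.Union.disjoint_support hne)).trans_le inf_le_left, ?_⟩
  have heq : (J * p.ker).subschemeι ≫ f = e.inv ≫ coprod.desc (J.subschemeι ≫ f) (p.ker.subschemeι ≫ f) := by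
    rw [← coprod.desc_comp, ← he, Category.assoc, e.inv_hom_id_assoc]
  haveI : IsFinite (coprod.desc (J.subschemeι ≫ f) (p.ker.subschemeι ≫ f)) :=
    inferInstance
  haveI hf' : IsFinite ((J * p.ker).subschemeι ≫ f) := by rw [heq]; infer_instance
  refine ⟨hf', ?_⟩
  show len _ = len _ + 1
  obtain ⟨h1, h2, h3⟩ := H27HilbOps.Union.isFinLocFree_field (coprod.desc (J.subschemeι ≫ f) (p.ker.subschemeι ≫ f))
  haveI := h2
  haveI := h3
  rw [← finrank_eq_len _ (default : PrimeSpectrum k), heq, Scheme.Hom.finrank_comp_left_of_isIso,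
    H27HilbOps.Union.finrank_desc_field, finrank_eq_len, finrank_eq_len, ← hP2]
  rfl

/-- Enlarging a finite subscheme to any larger length. -/
theorem exists_le_of_slen [IsSeparated f]
    (hpts : ∀ E : Set X, E.Finite → ∃ p : Spec (CommRingCat.of k) ⟶ X, p ≫ f = 𝟙 _ ∧
      p (default : PrimeSpectrum k) ∉ E)
    {J : X.IdealSheafData} (hJ : FinSub f J) (m : ℕ) (hm : slen f J ≤ m) :
    ∃ J', J' ≤ J ∧ FinSub f J' ∧ slen f J' = m := by
  induction m with
  | zero => exact ⟨J, le_rfl, hJ, Nat.le_zero.1 hm⟩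
  | succ m ih =>
    rcases hm.eq_or_lt with h | h
    · exact ⟨J, le_rfl, hJ, h⟩
    obtain ⟨J₁, h1, h2, h3⟩ := ih (Nat.lt_succ_iff.1 h)
    haveI : IsFinite (J₁.subschemeι ≫ f) := h2
    have hfin : (J₁.support : Set X).Finite := by
      rw [← J₁.range_subschemeι, ← Set.image_univ]
      refine Set.Finite.image _ ?_
      have := (J₁.subschemeι ≫ f).finite_preimage_singleton (default : PrimeSpectrum k)
      refine this.subset fun z _ => ?_
      exact Subsingleton.elim (α := PrimeSpectrum k) _ _
    obtain ⟨p, hp, hps⟩ := hpts _ hfin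
    obtain ⟨J₂, g1, g2, g3⟩ := exists_le_succ h2 p hp hps
    exact ⟨J₂, g1.trans h1, g2, by rw [g3, h3]⟩

/-- An integral scheme with two closed points has infinitely many. -/
theorem exists_point_notMem [IsAlgClosed k] [LocallyOfFiniteType f] [IsIntegral X] (hne : ∀ x : X, ¬ IsClosed ({x} : Set X) ∨ closure ({x} : Set X) ≠ Set.univ)
    (E : Set X) (hE : E.Finite) :
    ∃ p : Spec (CommRingCat.of k) ⟶ X, p ≫ f = 𝟙 _ ∧ p (default : PrimeSpectrum k) ∉ E := by
  haveI : JacobsonSpace X := LocallyOfFiniteType.jacobsonSpace f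
  have hfin : (E ∩ closedPoints X).Finite := hE.inter_of_left _
  have hcl : IsClosed (E ∩ closedPoints X) := by
    rw [← Set.biUnion_of_singleton (E ∩ closedPoints X)]
    exact hfin.isClosed_biUnion fun x hx => hx.2
  have hgen : genericPoint X ∉ E ∩ closedPoints X := fun h => (hne (genericPoint X)).elim (fun h' => h' h.2)
    fun h' => h' (genericPoint_closure X)
  obtain ⟨x, hx, hxc⟩ := nonempty_inter_closedPoints
    (Z := (E ∩ closedPoints X)ᶜ) ⟨_, hgen⟩ hcl.isOpen_compl.isLocallyClosed
  obtain ⟨⟨p, hp⟩, hpx⟩ := (pointEquivClosedPoint f).surjective ⟨x, hxc⟩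
  refine ⟨p, hp, fun hmem => hx ⟨?_, hxc⟩⟩
  have : p (default : PrimeSpectrum k) = x :=
    (congrArg p (Subsingleton.elim (α := PrimeSpectrum k) _ _)).trans (congrArg Subtype.val hpx)
  rwa [this] at hmem

/-- An integral scheme which is a closed point has only subschemes of length at most one. -/
theorem slen_le_one [IsAlgClosed k] [LocallyOfFiniteType f] [IsIntegral X] {x : X} (hx : IsClosed ({x} : Set X))
    (hd : closure ({x} : Set X) = Set.univ) (J : X.IdealSheafData) : slen f J ≤ 1 := by
  obtain ⟨⟨p, hp⟩, hpx⟩ := (pointEquivClosedPoint f).surjective ⟨x, hx⟩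
  haveI : IsClosedImmersion p := isClosedImmersion_of_comp_eq_id f p hp
  haveI : Surjective p := ⟨fun y => ⟨IsLocalRing.closedPoint k, by
    have h := hd.ge (Set.mem_univ y)
    rw [hx.closure_eq] at h
    exact (congrArg Subtype.val hpx).trans h.symm⟩⟩
  haveI : IsIso p := isIso_of_isClosedImmersion_of_surjective p
  haveI : IsIso f := by
    rw [show f = inv p by rw [← cancel_epi p, hp, IsIso.hom_inv_id]]; infer_instance
  have hb : FinSub f ⊥ := by show IsFinite _; infer_instance
  have h := (slen_le hb (bot_le : ⊥ ≤ J)).1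
  have h1 : slen f ⊥ = 1 :=
    ((deg_iff_slen f).1 (H27HilbOne.isFinLocFreeOfDeg_one_of_isIso ((⊥ : X.IdealSheafData).subschemeι ≫ f))).2
  omega

end Subschemes

end Groth.Agent.H10Coh.Secant
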