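import Groth.Agent.H10Coh.Secant.Split
import Groth.Agent.H10Coh.QcqsPush

/-!
# Rational points of secant bundles with the same image
-/

set_option autoImplicit false
set_option linter.style.haveILetI false
set_option backward.isDefEq.respectTransparency.types false

noncomputable section

universe u

open CategoryTheory CategoryTheory.Limits AlgebraicGeometry TopologicalSpace

local notation "pull" => Scheme.Modules.pullback
local notation "push" => Scheme.Modules.pushforward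

namespace Groth.Agent.H10Coh.Secant

variable {k : Type u} [Field k]

section EvLin

variable {X T : Scheme.{u}} (f : X ⟶ Spec (CommRingCat.of k)) (L : X.Modules)

/-- A quotient of the pulled back space of sections, evaluated at a rational point. -/
def evAt (g : T ⟶ Spec (CommRingCat.of k)) {N : T.Modules} (s : (pull g).obj ((push f).obj L) ⟶ N)
    (u : Spec (CommRingCat.of k) ⟶ T) (hu : u ≫ g = 𝟙 _) : (push f).obj L ⟶ (pull u).obj N :=
  (Scheme.Modules.pullbackPushforwardAdjunction g).homEquiv _ _ s ≫ restr g N u hu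

theorem evAt_app (g : T ⟶ Spec (CommRingCat.of k)) {N : T.Modules} (s : (pull g).obj ((push f).obj L) ⟶ N)
    (u : Spec (CommRingCat.of k) ⟶ T) (hu : u ≫ g = 𝟙 _) (x : Γ(L, (⊤ : X.Opens))) :
    (evAt f L g s u hu).app (⊤ : (Spec (CommRingCat.of k)).Opens) x =
      OmegaSh.pullSect u N ⊤ (s.app (⊤ : T.Opens) (OmegaSh.pullSect g ((push f).obj L) ⊤ x)) := by
  unfold evAt
  rw [Adjunction.homEquiv_unit]
  simp only [Scheme.Modules.Hom.comp_app, ConcreteCategory.comp_apply]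
  exact restr_app g N u hu _

/-- Two functionals to lines with nested kernels have the same kernel. -/
theorem ker_eq_of_le {M N N' : (Spec (CommRingCat.of k)).Modules} (hN' : PicF.IsInvertible N') (φ : M ⟶ N)
    (ψ : M ⟶ N') (hφ : ∃ x, φ.app (⊤ : (Spec (CommRingCat.of k)).Opens) x ≠ 0)
    (h : ∀ x, ψ.app (⊤ : (Spec (CommRingCat.of k)).Opens) x = 0 → φ.app ⊤ x = 0) (x : Γ(M, (⊤ : (Spec (CommRingCat.of k)).Opens))) :
    φ.app ⊤ x = 0 ↔ ψ.app ⊤ x = 0 := by
  refine ⟨fun hx => ?_, h x⟩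
  by_contra hne
  obtain ⟨y, hy⟩ := hφ
  obtain ⟨g, hg⟩ := exists_line hN'
  obtain ⟨c, hc⟩ := hg.2 (ψ.app ⊤ x)
  obtain ⟨d, hd⟩ := hg.2 (ψ.app ⊤ y)
  simp only at hc hd
  have hc0 : c ≠ 0 := fun h0 => hne (by rw [← hc, h0, zero_smul])
  obtain ⟨c', hc'⟩ : ∃ c', c' * c = 1 :=
    ⟨(show k from c)⁻¹, inv_mul_cancel₀ (show (show k from c) ≠ 0 from hc0)⟩
  have h1 : appTopLin ψ (y - (d * c') • x) = 0 := by
    rw [map_sub, map_smul, appTopLin_apply, appTopLin_apply, ← hc, smul_smul, mul_assoc, hc', mul_one, hd, sub_self]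
  have h2 : appTopLin φ (y - (d * c') • x) = 0 := h _ h1
  rw [map_sub, map_smul, appTopLin_apply, appTopLin_apply, hx, smul_zero, sub_zero] at h2
  exact hy h2

end EvLin

section Zer

variable {X : Scheme.{u}} (f : X ⟶ Spec (CommRingCat.of k)) {H : Over (Spec (CommRingCat.of k))} {d : ℕ}
  (Z : HilbD.Obj f d H) (L : X.Modules) {PE : Scheme.{u}} (πE : PE ⟶ H.left) {OE : PE.Modules}
  (qE : (pull πE).obj (TautSh.taut f H Z.1 L) ⟶ OE)

/-- The functional of a rational point of the bundle kills a section. -/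
def Zer (a : Spec (CommRingCat.of k) ⟶ PE) (x : Γ(L, (⊤ : X.Opens))) : Prop :=
  OmegaSh.pullSect a OE ⊤ (qE.app (⊤ : PE.Opens)
    (OmegaSh.pullSect πE (TautSh.taut f H Z.1 L) ⊤ (OmegaSh.pullSect (TautSh.famToX f H Z.1) L ⊤ x))) = 0

variable {f Z L πE qE}

/-- The functional of a rational point, as an additive map. -/
def zerHom (a : Spec (CommRingCat.of k) ⟶ PE) :
    Γ(L, (⊤ : X.Opens)) →+ Γ((pull a).obj OE, (⊤ : (Spec (CommRingCat.of k)).Opens)) :=
  AddMonoidHom.comp (OmegaSh.pullSect a OE ⊤).hom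
    (AddMonoidHom.comp (qE.app (⊤ : PE.Opens)).hom
      (AddMonoidHom.comp (OmegaSh.pullSect πE (TautSh.taut f H Z.1 L) ⊤).hom
        (OmegaSh.pullSect (TautSh.famToX f H Z.1) L ⊤).hom))

theorem Zer.add {a : Spec (CommRingCat.of k) ⟶ PE} {x y : Γ(L, (⊤ : X.Opens))} (hx : Zer f Z L πE qE a x)
    (hy : Zer f Z L πE qE a y) : Zer f Z L πE qE a (x + y) := by
  show zerHom (f := f) (Z := Z) (πE := πE) (qE := qE) a (x + y) = 0
  rw [map_add, show zerHom (f := f) (Z := Z) (πE := πE) (qE := qE) a x = 0 from hx,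
    show zerHom (f := f) (Z := Z) (πE := πE) (qE := qE) a y = 0 from hy, add_zero]

theorem zer_of_resSect_zero [L.IsQuasicoherent] (a : Spec (CommRingCat.of k) ⟶ PE)
    (ha : a ≫ πE ≫ H.hom = 𝟙 _) {x : Γ(L, (⊤ : X.Opens))}
    (hx : TautSh.resSect (fibIdeal f Z (a ≫ πE) (by rw [Category.assoc, ha])) L x = 0) : Zer f Z L πE qE a x := by
  have h0 := ((fibre_spec f Z L (a ≫ πE) (by rw [Category.assoc, ha])).1 x).2 hx
  refine (classified_app πE (TautSh.taut f H Z.1 L) qE a rfl _).symm.trans ?_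
  exact (congrArg _ h0).trans (map_zero _)

theorem evAt_secant (a : Spec (CommRingCat.of k) ⟶ PE) (ha : a ≫ πE ≫ H.hom = 𝟙 _) (x : Γ(L, (⊤ : X.Opens))) :
    (evAt f L (πE ≫ H.hom) (TautSh.secantQuot f H Z.1 L πE OE qE) a ha).app
        (⊤ : (Spec (CommRingCat.of k)).Opens) x = 0 ↔ Zer f Z L πE qE a x := by
  rw [evAt_app, secantQuot_app]
  rfl

theorem zer_iff_of_comp_eq {P : Scheme.{u}} {π : P ⟶ Spec (CommRingCat.of k)} {O1 : P.Modules}
    {qP : (pull π).obj ((push f).obj L) ⟶ O1} {h : PE ⟶ P}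
    (hh : TautSh.IsMapOfQuot π ((push f).obj L) O1 qP (πE ≫ H.hom) OE (TautSh.secantQuot f H Z.1 L πE OE qE) h)
    (a : Spec (CommRingCat.of k) ⟶ PE) (x : Γ(L, (⊤ : X.Opens))) :
    OmegaSh.pullSect (a ≫ h) O1 ⊤ (qP.app (⊤ : P.Opens) (OmegaSh.pullSect π ((push f).obj L) ⊤ x)) = 0 ↔
      Zer f Z L πE qE a x := by
  refine (isMapOfQuot_eq_zero_iff π ((push f).obj L) qP _ _ _ h hh a x).trans ?_
  rw [secantQuot_app]
  rfl

theorem exists_not_zer [IsSeparated f] [L.IsQuasicoherent] (hPE : KRR.IsProjBundle πE (TautSh.taut f H Z.1 L) OE qE)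
    (a : Spec (CommRingCat.of k) ⟶ PE) (ha : a ≫ πE ≫ H.hom = 𝟙 _)
    (hs : Function.Surjective (TautSh.resSect (fibIdeal f Z (a ≫ πE) (by rw [Category.assoc, ha])) L)) :
    ∃ x, ¬ Zer f Z L πE qE a x := by
  let V := TautSh.taut f H Z.1 L
  haveI hV : V.IsQuasicoherent := isQuasicoherent_taut f Z L
  haveI : ((pull (a ≫ πE)).obj V).IsQuasicoherent := H29Fitt.isQCoh_pullback (a ≫ πE) V hV
  haveI : Epi qE := hPE.epi
  haveI : (pull a).IsLeftAdjoint := (Scheme.Modules.pullbackPushforwardAdjunction a).isLeftAdjoint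
  haveI : Epi ((Scheme.Modules.pullbackCongr (rfl : a ≫ πE = a ≫ πE)).inv.app V ≫
      (Scheme.Modules.pullbackComp a πE).inv.app V ≫ (pull a).map qE) := inferInstance
  obtain ⟨z, hz⟩ := exists_sections_ne_zero
    (isInvertible_of_rankOne (H26Gr.isFinLocFreeOfRank_pullback a hPE.invertible))
    ((Scheme.Modules.pullbackCongr (rfl : a ≫ πE = a ≫ πE)).inv.app V ≫
      (Scheme.Modules.pullbackComp a πE).inv.app V ≫ (pull a).map qE)
  obtain ⟨x, rfl⟩ := (fibre_spec f Z L (a ≫ πE) (by rw [Category.assoc, ha])).2 hs z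
  exact ⟨x, fun h0 => hz ((classified_app πE V qE a rfl _).trans h0)⟩

theorem eq_of_zer_iff [IsSeparated f] [L.IsQuasicoherent] (hPE : KRR.IsProjBundle πE (TautSh.taut f H Z.1 L) OE qE)
    (a b : Spec (CommRingCat.of k) ⟶ PE) (ha : a ≫ πE ≫ H.hom = 𝟙 _) (hab : b ≫ πE = a ≫ πE)
    (hs : Function.Surjective (TautSh.resSect (fibIdeal f Z (a ≫ πE) (by rw [Category.assoc, ha])) L))
    (h : ∀ x, Zer f Z L πE qE a x ↔ Zer f Z L πE qE b x) : a = b := by
  haveI := isQuasicoherent_taut f Z L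
  exact point_ext (TautSh.taut f H Z.1 L) πE OE qE hPE a b rfl hab
    (fun x : Γ(L, (⊤ : X.Opens)) => OmegaSh.pullSect (TautSh.famToX f H Z.1) L ⊤ x)
    ((fibre_spec f Z L (a ≫ πE) (by rw [Category.assoc, ha])).2 hs) h

/-- Two rational points with the same functional coincide or the functional lives on a smaller subscheme. -/
theorem dichotomy [IsProper f] [L.IsQuasicoherent] (hU : HilbD.IsUniversal f d H Z)
    (hPE : KRR.IsProjBundle πE (TautSh.taut f H Z.1 L) OE qE)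
    (hres : ∀ J, FinSub f J → slen f J ≤ d + d → Function.Surjective (TautSh.resSect J L))
    (a b : Spec (CommRingCat.of k) ⟶ PE) (ha : a ≫ πE ≫ H.hom = 𝟙 _) (hb : b ≫ πE ≫ H.hom = 𝟙 _)
    (h : ∀ x, Zer f Z L πE qE a x ↔ Zer f Z L πE qE b x) :
    a = b ∨ ∃ J : X.IdealSheafData, FinSub f J ∧ slen f J < d ∧
      ∀ x, TautSh.resSect J L x = 0 → Zer f Z L πE qE a x := by
  let J₁ := fibIdeal f Z (a ≫ πE) (by rw [Category.assoc, ha])
  let J₂ := fibIdeal f Z (b ≫ πE) (by rw [Category.assoc, hb])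
  obtain ⟨f₁, l₁⟩ := (deg_iff_slen f).1 (fibIdeal_deg f Z (a ≫ πE) (by rw [Category.assoc, ha]))
  obtain ⟨f₂, l₂⟩ := (deg_iff_slen f).1 (fibIdeal_deg f Z (b ≫ πE) (by rw [Category.assoc, hb]))
  obtain ⟨fW, lW⟩ := f₁.inf f₂
  have hsW := hres _ fW (lW.trans (add_le_add l₁.le l₂.le))
  haveI := fW.isAffine
  obtain ⟨hle, heq⟩ := slen_le f₁ (le_sup_left : J₁ ≤ J₁ ⊔ J₂)
  rcases (hle.trans l₁.le).lt_or_eq with hlt | he
  · refine Or.inr ⟨J₁ ⊔ J₂, f₁.of_le le_sup_left, hlt, fun x hx => ?_⟩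
    obtain ⟨x₁, x₂, h₁, h₂, h₃⟩ := exists_split L hsW x hx
    have e : x = x - x₁ - x₂ + (x₁ + x₂) := by abel
    rw [e]
    exact (zer_of_resSect_zero a ha (resSect_zero_of_le L inf_le_left _ h₃)).add
      ((zer_of_resSect_zero a ha h₁).add ((h x₂).2 (zer_of_resSect_zero b hb h₂)))
  · have h21 : J₂ = J₁ ⊔ J₂ := (slen_le f₂ (le_sup_right : J₂ ≤ J₁ ⊔ J₂)).2 (he.trans l₂.symm)
    have h12 : J₁ = J₁ ⊔ J₂ := heq (he.trans l₁.symm)
    have ht := fibIdeal_injective f Z hU (a ≫ πE) (b ≫ πE) (by rw [Category.assoc, ha])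
      (by rw [Category.assoc, hb]) (h12.trans h21.symm)
    exact Or.inl (eq_of_zer_iff hPE a b ha ht.symm (hres _ f₁ (le_trans l₁.le (Nat.le_add_right d d))) h)

theorem exists_point_of_factor [IsSeparated f] [L.IsQuasicoherent] {n : ℕ} {H' : Over (Spec (CommRingCat.of k))}
    {Z' : HilbD.Obj f n H'} (hU' : HilbD.IsUniversal f n H' Z') {PE' : Scheme.{u}} {πE' : PE' ⟶ H'.left}
    {OE' : PE'.Modules} {qE' : (pull πE').obj (TautSh.taut f H' Z'.1 L) ⟶ OE'}
    (hPE' : KRR.IsProjBundle πE' (TautSh.taut f H' Z'.1 L) OE' qE') (J : X.IdealSheafData)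
    (hJ : Mor2.IsFinLocFreeOfDeg n (J.subschemeι ≫ f)) (hs : Function.Surjective (TautSh.resSect J L))
    (N : (Spec (CommRingCat.of k)).Modules) (hN : FlatMod.IsFinLocFreeOfRank 1 N) (Λ : (push f).obj L ⟶ N)
    (hΛ : ∃ x, Λ.app (⊤ : (Spec (CommRingCat.of k)).Opens) x ≠ 0)
    (hfac : ∀ x, TautSh.resSect J L x = 0 → Λ.app (⊤ : (Spec (CommRingCat.of k)).Opens) x = 0) :
    ∃ c : Spec (CommRingCat.of k) ⟶ PE', c ≫ πE' ≫ H'.hom = 𝟙 _ ∧
      ∀ x, Zer f Z' L πE' qE' c x ↔ Λ.app (⊤ : (Spec (CommRingCat.of k)).Opens) x = 0 := by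
  let φ := pullback.fst f (basePt (k := k)).hom
  let I : (PicF.XT f (basePt (k := k))).IdealSheafData := (J.subschemeι ≫ inv φ).ker
  obtain ⟨e, he⟩ := exists_iso_ker_subscheme (J.subschemeι ≫ inv φ)
  have hI : Mor2.IsFinLocFreeOfDeg n (I.subschemeι ≫ PicF.XTproj f (basePt (k := k))) := by
    have heq : I.subschemeι ≫ PicF.XTproj f (basePt (k := k)) = e.inv ≫ J.subschemeι ≫ f := by
      rw [← cancel_epi e.hom, e.hom_inv_id_assoc, reassoc_of% he]
      refine congrArg (J.subschemeι ≫ ·) ?_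
      rw [IsIso.inv_comp_eq]
      exact (Category.comp_id _).symm.trans pullback.condition.symm
    rw [heq]
    obtain ⟨⟨h1, h2, h3⟩, h4⟩ := hJ
    haveI := h1; haveI := h2; haveI := h3
    exact ⟨⟨inferInstance, inferInstance, inferInstance⟩, fun y => by
      rw [Scheme.Hom.finrank_comp_left_of_isIso, h4 y]⟩
  obtain ⟨g, hg, -⟩ := hU' basePt ⟨I, hI⟩
  have ht : g.left ≫ H'.hom = 𝟙 _ := Over.w g
  have hfib : fibIdeal f Z' g.left ht = J := by
    have hgI : HilbD.pull f (ptHom g.left ht) Z'.1 = I := hg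
    show ((HilbD.pull f (ptHom g.left ht) Z'.1).subschemeι ≫ φ).ker = J
    rw [hgI, Scheme.Hom.ker_comp, Scheme.IdealSheafData.ker_subschemeι, ← Scheme.Hom.ker_comp,
      Category.assoc, IsIso.inv_hom_id, Category.comp_id, Scheme.IdealSheafData.ker_subschemeι]
  obtain ⟨hz, hsur⟩ := fibre_spec f Z' L g.left ht
  rw [hfib] at hz hsur
  let V := TautSh.taut f H' Z'.1 L
  haveI hV : V.IsQuasicoherent := isQuasicoherent_taut f Z' L
  haveI : ((pull g.left).obj V).IsQuasicoherent := H29Fitt.isQCoh_pullback g.left V hV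
  let ev : (push f).obj L ⟶ (pull g.left).obj V := TautSh.pushEval f H' Z'.1 L ≫ restr H'.hom V g.left ht
  have hev : ∀ x, ev.app (⊤ : (Spec (CommRingCat.of k)).Opens) x =
      OmegaSh.pullSect g.left V ⊤ (OmegaSh.pullSect (TautSh.famToX f H' Z'.1) L ⊤ x) := fun x => by
    show (restr H'.hom V g.left ht).app ⊤ ((TautSh.pushEval f H' Z'.1 L).app ⊤ x) = _
    rw [restr_app, pushEval_app]
  have hev' : Function.Surjective (appTopLin ev) := fun z => by
    obtain ⟨x, hx⟩ := hsur hs z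
    exact ⟨x, (hev x).trans hx⟩
  let l := (Submodule.liftQ (LinearMap.ker (appTopLin ev)) (appTopLin Λ)
      (fun x hx => hfac x ((hz x).1 ((hev x).symm.trans hx)))).comp
    ((appTopLin ev).quotKerEquivOfSurjective hev').symm.toLinearMap
  have hl : ∀ x, l (appTopLin ev x) = appTopLin Λ x := fun x => by
    simp only [l, LinearMap.comp_apply, LinearEquiv.coe_coe, LinearMap.quotKerEquivOfSurjective_symm_apply,
      Submodule.liftQ_apply]
  obtain ⟨s, hs'⟩ := exists_hom_of_lin l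
  have hline := isInvertible_of_rankOne hN
  haveI : N.IsQuasicoherent := H28Mero.isQCoh_of_isInvertible hline
  have hse : ∀ x, s.app (⊤ : (Spec (CommRingCat.of k)).Opens)
      (OmegaSh.pullSect g.left V ⊤ (OmegaSh.pullSect (TautSh.famToX f H' Z'.1) L ⊤ x)) = Λ.app ⊤ x := fun x => by
    rw [← hev x, hs']; exact hl x
  have hepi : Epi s := by
    obtain ⟨x, hx⟩ := hΛ
    exact epi_of_surjective s (surjective_of_ne_zero hline s (fun h0 => hx ((hse x).symm.trans h0)))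
  obtain ⟨c, ⟨hc, i, hi⟩, -⟩ := hPE'.univ _ g.left N hN s hepi
  refine ⟨c, (reassoc_of% hc) H'.hom |>.trans ht, fun x => ?_⟩
  have key := classified_app πE' V qE' c hc (OmegaSh.pullSect (TautSh.famToX f H' Z'.1) L ⊤ x)
  rw [← hse x, ← hi]
  unfold Zer
  rw [← key]
  exact ⟨fun h0 => (congrArg (i.hom.app ⊤) h0).trans (map_zero _),
    fun h0 => (H17.PullSect.bijective_app i.hom _).1 (h0.trans (map_zero _).symm)⟩

end Zer

end Groth.Agent.H10Coh.Secant

namespace Groth.Agent.H10Coh.Secant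

variable {k : Type u} [Field k]

/-- Very ampleness gives surjectivity for all shorter subschemes. -/
theorem resSect_surjective_of_slen_le {X : Scheme.{u}} [X.Over (Spec (CommRingCat.of k))]
    [IsSeparated (X ↘ Spec (CommRingCat.of k))] {L : X.Modules} [L.IsQuasicoherent] {m : ℕ}
    (hva : TautSh.IsKVeryAmple k X L m)
    (hpts : ∀ E : Set X, E.Finite → ∃ p : Spec (CommRingCat.of k) ⟶ X,
      p ≫ (X ↘ Spec (CommRingCat.of k)) = 𝟙 _ ∧ p (default : PrimeSpectrum k) ∉ E)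
    {J : X.IdealSheafData} (hJ : FinSub (X ↘ Spec (CommRingCat.of k)) J)
    (hm : slen (X ↘ Spec (CommRingCat.of k)) J ≤ m + 1) : Function.Surjective (TautSh.resSect J L) := by
  obtain ⟨J', h1, h2, h3⟩ := exists_le_of_slen hpts hJ (m + 1) hm
  haveI := h2.isAffine
  exact resSect_surjective_of_le L h1 (hva J' ((deg_iff_slen _).2 ⟨h2, h3⟩))

end Groth.Agent.H10Coh.Secant
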