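import Groth.Agent.H10Coh.QCohOps
import Groth.Agent.H11Ample.Converse
import Groth.Agent.H22Alg.PB.Local
import Groth.Agent.H28Mero.Gen
import Groth.Agent.H17.PullSectLocal
import Groth.Prelude.Def_KRR

/-!
# Quasi-coherent modules on the spectrum of a field

A quotient line of a quasi-coherent module over a field is determined by its kernel on sections.
-/

set_option autoImplicit false
set_option linter.style.haveILetI false
set_option backward.isDefEq.respectTransparency.types false

noncomputable section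

universe u

open CategoryTheory CategoryTheory.Limits AlgebraicGeometry Opposite TopologicalSpace

namespace Groth.Agent.H10Coh.Secant

section Affine

variable {R : CommRingCat.{u}} {M N : (Spec R).Modules}

/-- Global sections of a module map on an affine scheme, as a linear map over the base ring. -/
def appTopLin (φ : M ⟶ N) : Γ(M, (⊤ : (Spec R).Opens)) →ₗ[R] Γ(N, (⊤ : (Spec R).Opens)) :=
  ((moduleSpecΓFunctor (R := R)).map φ).hom

theorem appTopLin_apply (φ : M ⟶ N) (x : Γ(M, (⊤ : (Spec R).Opens))) : appTopLin φ x = φ.app ⊤ x := rfl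

theorem isIso_counit (hM : M.IsQuasicoherent) : IsIso ((tilde.adjunction (R := R)).counit.app M) :=
  (isQuasicoherent_iff_isIso_fromTildeΓ M).mp hM

theorem exists_hom_of_lin [hM : M.IsQuasicoherent]
    (l : Γ(M, (⊤ : (Spec R).Opens)) →ₗ[R] Γ(N, (⊤ : (Spec R).Opens))) :
    ∃ φ : M ⟶ N, ∀ x : Γ(M, (⊤ : (Spec R).Opens)), φ.app ⊤ x = l x := by
  let adj := tilde.adjunction (R := R)
  let G := moduleSpecΓFunctor (R := R)
  haveI : IsIso (adj.counit.app M) := isIso_counit hM
  let l' : G.obj M ⟶ G.obj N := ModuleCat.ofHom (X := G.obj M) (Y := G.obj N) l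
  refine ⟨inv (adj.counit.app M) ≫ (adj.homEquiv (G.obj M) N).symm l', fun x => ?_⟩
  have hinv : G.map (inv (adj.counit.app M)) = adj.unit.app (G.obj M) := by
    rw [← cancel_mono (G.map (adj.counit.app M))]
    exact ((G.map_comp _ _).symm.trans ((congrArg G.map (IsIso.inv_hom_id _)).trans (G.map_id _))).trans
      (adj.right_triangle_components M).symm
  have h : G.map (inv (adj.counit.app M) ≫ (adj.homEquiv (G.obj M) N).symm l') = l' := by
    refine (G.map_comp _ _).trans ((congrArg (· ≫ G.map _) hinv).trans ?_)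
    exact (adj.homEquiv_unit _ _ _).symm.trans (Equiv.apply_symm_apply _ _)
  have h' := congrArg (fun a : G.obj M ⟶ G.obj N => a.hom x) h
  exact h'

theorem hom_ext_top [hM : M.IsQuasicoherent] {φ ψ : M ⟶ N}
    (h : ∀ x : Γ(M, (⊤ : (Spec R).Opens)), φ.app ⊤ x = ψ.app ⊤ x) : φ = ψ := by
  let adj := tilde.adjunction (R := R)
  haveI : IsIso (adj.counit.app M) := isIso_counit hM
  have hΓ : (moduleSpecΓFunctor (R := R)).map φ = (moduleSpecΓFunctor (R := R)).map ψ := by
    ext x; exact h x
  rw [← cancel_epi (adj.counit.app M)]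
  exact ((adj.counit.naturality φ).symm.trans
    (congrArg (fun a => (tilde.functor R).map a ≫ adj.counit.app N) hΓ)).trans (adj.counit.naturality ψ)

theorem epi_of_surjective [hN : N.IsQuasicoherent] (φ : M ⟶ N) (h : Function.Surjective (φ.app ⊤)) : Epi φ := by
  let adj := tilde.adjunction (R := R)
  haveI : IsIso (adj.counit.app N) := isIso_counit hN
  haveI : Epi ((moduleSpecΓFunctor (R := R)).map φ) := (ModuleCat.epi_iff_surjective _).2 h
  haveI : Epi ((tilde.functor R).map ((moduleSpecΓFunctor (R := R)).map φ)) := inferInstance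
  have he : Epi ((moduleSpecΓFunctor (R := R) ⋙ tilde.functor R).map φ ≫ adj.counit.app N) :=
    @epi_comp _ _ _ _ _ _ ‹Epi ((tilde.functor R).map _)› _ inferInstance
  haveI : Epi (adj.counit.app M ≫ φ) := adj.counit.naturality φ ▸ he
  exact epi_of_epi (adj.counit.app M) φ

end Affine

section Field

variable {k : Type u} [Field k]

/-- Sections of a module on the spectrum of a field form a vector space. -/
scoped instance moduleSections (M : (Spec (CommRingCat.of k)).Modules) (U : (Spec (CommRingCat.of k)).Opens) :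
    Module (CommRingCat.of k : CommRingCat) Γ(M, U) :=
  inferInstanceAs <| Module (CommRingCat.of k)
    ((modulesSpecToSheaf (R := CommRingCat.of k)).obj M |>.obj.obj (.op U))

theorem top_eq_of_mem {V : (Spec (CommRingCat.of k)).Opens} {x : Spec (CommRingCat.of k)} (h : x ∈ V) : V = ⊤ :=
  TopologicalSpace.Opens.ext (Set.eq_univ_of_forall fun y => by
    have : y = x := Subsingleton.elim (α := PrimeSpectrum k) y x
    exact this ▸ h)

/-- The sections of a line bundle on the spectrum of a field form a line. -/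
theorem exists_line {N : (Spec (CommRingCat.of k)).Modules} (hN : PicF.IsInvertible N) :
    ∃ g : Γ(N, (⊤ : (Spec (CommRingCat.of k)).Opens)),
      Function.Bijective fun c : (CommRingCat.of k : CommRingCat) => c • g := by
  obtain ⟨V, e, hV, he⟩ := H11Ample.exists_gen hN (default : PrimeSpectrum k)
  obtain rfl := top_eq_of_mem hV
  refine ⟨e, ?_⟩
  have hb := (he.bijective (W := ⊤) le_rfl).comp
    (ConcreteCategory.bijective_of_isIso (Scheme.ΓSpecIso (CommRingCat.of k)).inv)
  refine Eq.subst (motive := Function.Bijective) (funext fun c => ?_) hb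
  refine (congrArg (fun z => (Scheme.ΓSpecIso (CommRingCat.of k)).inv c • z) (H10Coh.mres_self N le_rfl e)).trans ?_
  refine congrArg (· • e) ?_
  exact (congr($((Spec (CommRingCat.of k)).presheaf.map_id _) ((Scheme.ΓSpecIso (CommRingCat.of k)).inv c))).symm

theorem surjective_of_ne_zero {M N : (Spec (CommRingCat.of k)).Modules} (hN : PicF.IsInvertible N) (φ : M ⟶ N)
    {x : Γ(M, (⊤ : (Spec (CommRingCat.of k)).Opens))} (hx : φ.app ⊤ x ≠ 0) : Function.Surjective (φ.app ⊤) := by
  obtain ⟨g, hg⟩ := exists_line hN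
  intro y
  obtain ⟨c, hc⟩ := hg.2 (φ.app ⊤ x)
  obtain ⟨d, hd⟩ := hg.2 y
  simp only at hc hd
  have hc0 : c ≠ 0 := fun h0 => hx (by rw [← hc, h0, zero_smul])
  obtain ⟨c', hc'⟩ : ∃ c', c' * c = 1 := ⟨(show k from c)⁻¹, inv_mul_cancel₀ (show (show k from c) ≠ 0 from hc0)⟩
  refine ⟨(d * c') • x, ?_⟩
  rw [← appTopLin_apply φ, map_smul, appTopLin_apply, ← hc, smul_smul, mul_assoc, hc', mul_one, hd]

theorem exists_sections_ne_zero {M N : (Spec (CommRingCat.of k)).Modules} [M.IsQuasicoherent]
    (hN : PicF.IsInvertible N) (φ : M ⟶ N) [Epi φ] :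
    ∃ x : Γ(M, (⊤ : (Spec (CommRingCat.of k)).Opens)), φ.app ⊤ x ≠ 0 := by
  by_contra h
  push Not at h
  have h0 : φ = 0 := hom_ext_top fun x => (h x).trans rfl
  have hid : 𝟙 N = 0 := by rw [← cancel_epi φ, h0, Limits.zero_comp, Limits.zero_comp]
  obtain ⟨g, hg⟩ := exists_line hN
  have hg0 : g = 0 :=
    congr($(congrArg (fun a => Scheme.Modules.Hom.app a (⊤ : (Spec (CommRingCat.of k)).Opens)) hid) g)
  exact one_ne_zero (hg.1 (show (1 : (CommRingCat.of k : CommRingCat)) • g =
    (0 : (CommRingCat.of k : CommRingCat)) • g by rw [hg0, smul_zero, smul_zero]))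

theorem isInvertible_of_rankOne {X : Scheme.{u}} {N : X.Modules} (hN : FlatMod.IsFinLocFreeOfRank 1 N) :
    PicF.IsInvertible N := H22Alg.PB.isInvertible_of_rank_one hN

/-- Two quotient lines with the same kernel are isomorphic compatibly with the quotient maps. -/
theorem exists_iso_of_ker {M N N' : (Spec (CommRingCat.of k)).Modules} [M.IsQuasicoherent]
    (hN : PicF.IsInvertible N) (hN' : PicF.IsInvertible N') [N.IsQuasicoherent] [N'.IsQuasicoherent]
    (φ : M ⟶ N) (ψ : M ⟶ N') [Epi φ] [Epi ψ]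
    (h : ∀ x : Γ(M, (⊤ : (Spec (CommRingCat.of k)).Opens)), φ.app ⊤ x = 0 ↔ ψ.app ⊤ x = 0) :
    ∃ e : N ≅ N', φ ≫ e.hom = ψ := by
  obtain ⟨x, hx⟩ := exists_sections_ne_zero hN φ
  obtain ⟨y, hy⟩ := exists_sections_ne_zero hN' ψ
  have hs : Function.Surjective (appTopLin φ) := surjective_of_ne_zero hN φ hx
  have hs' : Function.Surjective (appTopLin ψ) := surjective_of_ne_zero hN' ψ hy
  have hk : LinearMap.ker (appTopLin φ) = LinearMap.ker (appTopLin ψ) := Submodule.ext h
  let e := ((appTopLin φ).quotKerEquivOfSurjective hs).symm ≪≫ₗ Submodule.quotEquivOfEq _ _ hk ≪≫ₗ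
      (appTopLin ψ).quotKerEquivOfSurjective hs'
  have he : ∀ z, e (appTopLin φ z) = appTopLin ψ z := fun z => by
    simp only [e, LinearEquiv.trans_apply, LinearMap.quotKerEquivOfSurjective_symm_apply, Submodule.quotEquivOfEq_mk,
      LinearMap.quotKerEquivOfSurjective_apply_mk]
  obtain ⟨a, ha⟩ := exists_hom_of_lin e.toLinearMap
  obtain ⟨b, hb⟩ := exists_hom_of_lin e.symm.toLinearMap
  refine ⟨⟨a, b, hom_ext_top fun z => ?_, hom_ext_top fun z => ?_⟩, hom_ext_top fun z => ?_⟩
  · show b.app ⊤ (a.app ⊤ z) = z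
    rw [ha]; exact (hb _).trans (e.symm_apply_apply z)
  · show a.app ⊤ (b.app ⊤ z) = z
    rw [hb]; exact (ha _).trans (e.apply_symm_apply z)
  · exact (ha _).trans (he z)

end Field

end Groth.Agent.H10Coh.Secant
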