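import Groth.Agent.H10Coh.Secant.Point
import Groth.Agent.H26Gr.QuotBC
import Groth.Prelude.Def_TautSec

/-!
# Values of the tautological quotients at rational points
-/

set_option autoImplicit false
set_option linter.style.haveILetI false
set_option backward.isDefEq.respectTransparency.types false

noncomputable section

universe u

open CategoryTheory CategoryTheory.Limits AlgebraicGeometry Opposite TopologicalSpace

local notation "pull" => Scheme.Modules.pullback
local notation "push" => Scheme.Modules.pushforward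

namespace Groth.Agent.H10Coh.Secant

section General

variable {B P T W : Scheme.{u}} (π : P ⟶ B) (V : B.Modules) {O1 : P.Modules} (q : (pull π).obj V ⟶ O1)

theorem pullSect_congr_app {g g' : T ⟶ B} (hg : g = g') (V : B.Modules) (x : Γ(V, (⊤ : B.Opens))) :
    ((Scheme.Modules.pullbackCongr hg).inv.app V).app (⊤ : T.Opens) (OmegaSh.pullSect g' V ⊤ x) =
      OmegaSh.pullSect g V ⊤ x := by
  subst hg
  rfl

/-- The quotient classified by `h`, evaluated on a global section. -/
theorem classified_app {g : T ⟶ B} (h : T ⟶ P) (hg : h ≫ π = g) (x : Γ(V, (⊤ : B.Opens))) :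
    ((Scheme.Modules.pullbackCongr hg).inv.app V ≫ (Scheme.Modules.pullbackComp h π).inv.app V ≫
        (pull h).map q).app (⊤ : T.Opens) (OmegaSh.pullSect g V ⊤ x) =
      OmegaSh.pullSect h O1 ⊤ (q.app (⊤ : P.Opens) (OmegaSh.pullSect π V ⊤ x)) := by
  show ((pull h).map q).app ⊤ (((Scheme.Modules.pullbackComp h π).inv.app V).app ⊤
    (((Scheme.Modules.pullbackCongr hg).inv.app V).app ⊤ (OmegaSh.pullSect g V ⊤ x))) = _
  rw [pullSect_congr_app hg V x]
  refine Eq.trans ?_ (H17.PullSect.pullSect_natural h q ⊤ (OmegaSh.pullSect π V ⊤ x)).symm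
  exact congrArg (((pull h).map q).app _) (H17.PullSect.pullSect_comp h π V ⊤ x)

/-- Vanishing of a pulled back section is insensitive to composition. -/
theorem pullSect_comp_eq_zero_iff (u : W ⟶ T) (h : T ⟶ P) (O : P.Modules) (y : Γ(O, (⊤ : P.Opens))) :
    OmegaSh.pullSect (u ≫ h) O ⊤ y = 0 ↔ OmegaSh.pullSect u ((pull h).obj O) ⊤ (OmegaSh.pullSect h O ⊤ y) = 0 := by
  have key := H17.PullSect.pullSect_comp u h O ⊤ y
  have hinj := (H17.PullSect.bijective_app ((Scheme.Modules.pullbackComp u h).inv.app O) ((u ≫ h) ⁻¹ᵁ ⊤)).1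
  constructor
  · intro h0
    rw [h0, map_zero] at key
    exact key.symm
  · intro h0
    exact hinj ((key.trans h0).trans (map_zero _).symm)

theorem pullSect_iso_eq_zero_iff (u : W ⟶ T) {L L' : T.Modules} (e : L ≅ L') (z : Γ(L, (⊤ : T.Opens))) :
    OmegaSh.pullSect u L' ⊤ (e.hom.app ⊤ z) = 0 ↔ OmegaSh.pullSect u L ⊤ z = 0 := by
  rw [H17.PullSect.pullSect_natural u e.hom ⊤ z]
  exact ⟨fun h0 => (H17.PullSect.bijective_app ((pull u).map e.hom) _).1 (h0.trans (map_zero _).symm),
    fun h0 => by rw [h0, map_zero]⟩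

/-- The vanishing of the tautological quotient at `u ≫ h`, for `h` classifying `s`. -/
theorem isMapOfQuot_eq_zero_iff (g : T ⟶ B) (L : T.Modules) (s : (pull g).obj V ⟶ L) (h : T ⟶ P)
    (hh : TautSh.IsMapOfQuot π V O1 q g L s h) (u : W ⟶ T) (x : Γ(V, (⊤ : B.Opens))) :
    OmegaSh.pullSect (u ≫ h) O1 ⊤ (q.app (⊤ : P.Opens) (OmegaSh.pullSect π V ⊤ x)) = 0 ↔
      OmegaSh.pullSect u L ⊤ (s.app (⊤ : T.Opens) (OmegaSh.pullSect g V ⊤ x)) = 0 := by
  obtain ⟨hg, e, he⟩ := hh
  rw [pullSect_comp_eq_zero_iff, ← pullSect_iso_eq_zero_iff u e]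
  have h1 : s.app (⊤ : T.Opens) (OmegaSh.pullSect g V ⊤ x) =
      e.hom.app ⊤ (OmegaSh.pullSect h O1 ⊤ (q.app (⊤ : P.Opens) (OmegaSh.pullSect π V ⊤ x))) := by
    rw [← classified_app π V q h hg x, ← he]
    rfl
  rw [h1]

end General

section Adjoint

variable {X Y : Scheme.{u}} (g : X ⟶ Y)

theorem transpose_app {F : Y.Modules} {G : X.Modules} (φ : F ⟶ (push g).obj G) (x : Γ(F, (⊤ : Y.Opens))) :
    (((Scheme.Modules.pullbackPushforwardAdjunction g).homEquiv F G).symm φ).app (⊤ : X.Opens)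
        (OmegaSh.pullSect g F ⊤ x) = φ.app (⊤ : Y.Opens) x := by
  let adj := Scheme.Modules.pullbackPushforwardAdjunction g
  have h := (adj.homEquiv F G).apply_symm_apply φ
  rw [Adjunction.homEquiv_unit] at h
  exact congr($(congrArg (fun a => Scheme.Modules.Hom.app a (⊤ : Y.Opens)) h) x)

theorem linSysQuot_app (L : X.Modules) (x : Γ(L, (⊤ : X.Opens))) :
    (TautSh.linSysQuot g L).app (⊤ : X.Opens) (OmegaSh.pullSect g ((push g).obj L) ⊤ x) = x := by
  have h := (Scheme.Modules.pullbackPushforwardAdjunction g).right_triangle_components L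
  exact congr($(congrArg (fun a => Scheme.Modules.Hom.app a (⊤ : Y.Opens)) h) x)

end Adjoint

section Taut

variable {X S : Scheme.{u}} (f : X ⟶ S) (H : Over S) (I : (PicF.XT f H).IdealSheafData) (L : X.Modules)

theorem pushEval_app (x : Γ(L, (⊤ : X.Opens))) :
    (TautSh.pushEval f H I L).app (⊤ : S.Opens) x = OmegaSh.pullSect (TautSh.famToX f H I) L ⊤ x := by
  show ((pull (TautSh.famToX f H I)).obj L).presheaf.map (eqToHom (rfl : (⊤ : (TautSh.fam f H I).Opens) = ⊤)).op
    (OmegaSh.pullSect (TautSh.famToX f H I) L ⊤ x) = _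
  rw [eqToHom_refl, op_id, CategoryTheory.Functor.map_id]
  rfl

theorem evalMap_app (x : Γ(L, (⊤ : X.Opens))) :
    (TautSh.evalMap f H I L).app (⊤ : H.left.Opens) (OmegaSh.pullSect H.hom ((push f).obj L) ⊤ x) =
      OmegaSh.pullSect (TautSh.famToX f H I) L ⊤ x :=
  (transpose_app H.hom (TautSh.pushEval f H I L) x).trans (pushEval_app f H I L x)

theorem secantQuot_app {PE : Scheme.{u}} (π : PE ⟶ H.left) {O1 : PE.Modules}
    (qP : (pull π).obj (TautSh.taut f H I L) ⟶ O1) (x : Γ(L, (⊤ : X.Opens))) :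
    (TautSh.secantQuot f H I L π O1 qP).app (⊤ : PE.Opens) (OmegaSh.pullSect (π ≫ H.hom) ((push f).obj L) ⊤ x) =
      qP.app (⊤ : PE.Opens) (OmegaSh.pullSect π (TautSh.taut f H I L) ⊤
        (OmegaSh.pullSect (TautSh.famToX f H I) L ⊤ x)) := by
  have h1 := evalMap_app f H I L x
  have h2 := H17.PullSect.pullSect_comp π H.hom ((push f).obj L) ⊤ x
  unfold TautSh.secantQuot
  generalize TautSh.evalMap f H I L = ev at h1 ⊢
  generalize OmegaSh.pullSect H.hom ((push f).obj L) ⊤ x = y at h1 h2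
  generalize OmegaSh.pullSect (π ≫ H.hom) ((push f).obj L) ⊤ x = z at h2 ⊢
  generalize (Scheme.Modules.pullbackComp π H.hom).inv.app ((push f).obj L) = c at h2 ⊢
  rw [← h1]
  have h3 := H17.PullSect.pullSect_natural π ev ⊤ y
  simp only [Scheme.Modules.Hom.comp_app, ConcreteCategory.comp_apply]
  refine congrArg (qP.app (⊤ : PE.Opens)) ?_
  exact (congrArg (((pull π).map ev).app (π ⁻¹ᵁ ⊤)) h2).trans h3.symm

end Taut

section Points

variable {k : Type u} [Field k] {B : Scheme.{u}} (p : B ⟶ Spec (CommRingCat.of k)) (V : B.Modules)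

/-- Restriction to a rational point, as a map of modules on the spectrum of the field. -/
def restr (t : Spec (CommRingCat.of k) ⟶ B) (ht : t ≫ p = 𝟙 _) : (push p).obj V ⟶ (pull t).obj V :=
  (push p).map ((Scheme.Modules.pullbackPushforwardAdjunction t).unit.app V) ≫
    (Scheme.Modules.pushforwardComp t p).hom.app _ ≫ (Scheme.Modules.pushforwardCongr ht).hom.app _ ≫
    (Scheme.Modules.pushforwardId (Spec (CommRingCat.of k))).hom.app _

theorem push_congr_id_app {M : (Spec (CommRingCat.of k)).Modules} {g : Spec (CommRingCat.of k) ⟶ Spec (CommRingCat.of k)}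
    (hg : g = 𝟙 _) (y : Γ((push g).obj M, (⊤ : (Spec (CommRingCat.of k)).Opens))) :
    ((Scheme.Modules.pushforwardId (Spec (CommRingCat.of k))).hom.app M).app ⊤
      (((Scheme.Modules.pushforwardCongr hg).hom.app M).app ⊤ y) = y := by
  subst hg
  rw [Scheme.Modules.pushforwardCongr_hom_app_app, eqToHom_refl, op_id, CategoryTheory.Functor.map_id]
  rfl

theorem restr_app (t : Spec (CommRingCat.of k) ⟶ B) (ht : t ≫ p = 𝟙 _) (x : Γ(V, (⊤ : B.Opens))) :
    (restr p V t ht).app (⊤ : (Spec (CommRingCat.of k)).Opens) x = OmegaSh.pullSect t V ⊤ x := by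
  unfold restr
  simp only [Scheme.Modules.Hom.comp_app, ConcreteCategory.comp_apply]
  exact push_congr_id_app ht _

theorem point_ext [hV : V.IsQuasicoherent] {P : Scheme.{u}} (π : P ⟶ B) (O1 : P.Modules)
    (q : (pull π).obj V ⟶ O1) (hP : KRR.IsProjBundle π V O1 q) {t : Spec (CommRingCat.of k) ⟶ B}
    (u v : Spec (CommRingCat.of k) ⟶ P) (hu : u ≫ π = t) (hv : v ≫ π = t) {ι : Type*}
    (σ : ι → Γ(V, (⊤ : B.Opens))) (hσ : Function.Surjective fun i => OmegaSh.pullSect t V ⊤ (σ i))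
    (h : ∀ i, OmegaSh.pullSect u O1 ⊤ (q.app (⊤ : P.Opens) (OmegaSh.pullSect π V ⊤ (σ i))) = 0 ↔
      OmegaSh.pullSect v O1 ⊤ (q.app (⊤ : P.Opens) (OmegaSh.pullSect π V ⊤ (σ i))) = 0) : u = v := by
  let s : ∀ w : Spec (CommRingCat.of k) ⟶ P, w ≫ π = t → ((pull t).obj V ⟶ (pull w).obj O1) := fun w hw =>
    (Scheme.Modules.pullbackCongr hw).inv.app V ≫ (Scheme.Modules.pullbackComp w π).inv.app V ≫ (pull w).map q
  haveI : Epi q := hP.epi
  have hs : ∀ w hw, Epi (s w hw) := fun w hw => by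
    haveI := (Scheme.Modules.pullbackPushforwardAdjunction w).isLeftAdjoint
    dsimp only [s]
    infer_instance
  haveI := hs u hu
  haveI := hs v hv
  have hinv : ∀ w : Spec (CommRingCat.of k) ⟶ P, FlatMod.IsFinLocFreeOfRank 1 ((pull w).obj O1) := fun w =>
    H26Gr.isFinLocFreeOfRank_pullback w hP.invertible
  haveI : ((pull u).obj O1).IsQuasicoherent := H28Mero.isQCoh_of_isInvertible (isInvertible_of_rankOne (hinv u))
  haveI : ((pull v).obj O1).IsQuasicoherent := H28Mero.isQCoh_of_isInvertible (isInvertible_of_rankOne (hinv v))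
  haveI : ((pull t).obj V).IsQuasicoherent := H29Fitt.isQCoh_pullback t V hV
  obtain ⟨e, he⟩ := exists_iso_of_ker (isInvertible_of_rankOne (hinv u)) (isInvertible_of_rankOne (hinv v))
    (s u hu) (s v hv) fun z => by
      obtain ⟨i, rfl⟩ := hσ z
      have e1 := classified_app π V q u hu (σ i)
      have e2 := classified_app π V q v hv (σ i)
      exact Iff.of_eq (congrArg (· = 0) e1) |>.trans ((h i).trans (Iff.of_eq (congrArg (· = 0) e2)).symm)
  refine (hP.univ _ t _ (hinv v) (s v hv) (hs v hv)).unique ⟨hu, e, ?_⟩ ⟨hv, Iso.refl _, ?_⟩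
  · rw [← he]; simp only [s, Category.assoc]
  · simp only [s, Iso.refl_hom, Category.comp_id]

end Points

end Groth.Agent.H10Coh.Secant
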