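import Groth.Agent.H10Coh.Secant.Fibre
import Groth.Agent.H10Coh.Secant.Length
import Groth.Agent.H17.PullSectLocal

/-!
# Sections vanishing on an intersection of two subschemes with affine union
-/

set_option autoImplicit false
set_option linter.style.haveILetI false
set_option backward.isDefEq.respectTransparency.types false

noncomputable section

universe u

open CategoryTheory CategoryTheory.Limits AlgebraicGeometry TopologicalSpace

local notation "pull" => Scheme.Modules.pullback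

namespace Groth.Agent.H10Coh.Secant

variable {X : Scheme.{u}} (L : X.Modules) [hL : L.IsQuasicoherent]

theorem resSect_eq (J : X.IdealSheafData) (x : Γ(L, (⊤ : X.Opens))) :
    TautSh.resSect J L x = OmegaSh.pullSect J.subschemeι L ⊤ x := rfl

theorem resSect_zero_of_le {J J' : X.IdealSheafData} (h : J ≤ J') (x : Γ(L, (⊤ : X.Opens)))
    (hx : TautSh.resSect J L x = 0) : TautSh.resSect J' L x = 0 := by
  have := (pullSect_comp_eq_zero_iff (Scheme.IdealSheafData.inclusion h) J.subschemeι L x).2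
    ((congrArg _ (show OmegaSh.pullSect J.subschemeι L ⊤ x = 0 from hx)).trans (map_zero _))
  exact (pullSect_congr_iff (Scheme.IdealSheafData.inclusion_subschemeι h) L x).1 this

theorem resSect_surjective_of_le {J J' : X.IdealSheafData} (h : J ≤ J') [IsAffine J.subscheme]
    (hs : Function.Surjective (TautSh.resSect J L)) : Function.Surjective (TautSh.resSect J' L) := by
  haveI : ((pull J.subschemeι).obj L).IsQuasicoherent := H29Fitt.isQCoh_pullback J.subschemeι L hL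
  haveI := isClosedImmersion_inclusion h
  let g := Scheme.IdealSheafData.inclusion h
  have hq := (H17.PullSect.isQuot_of_isAffine g _ ‹((pull J.subschemeι).obj L).IsQuasicoherent›).1
  intro z
  have key : ∀ w : J'.subscheme ⟶ X, (g ≫ J.subschemeι = w) →
      ∀ z, ∃ x, OmegaSh.pullSect w L ⊤ x = z := by
    rintro w rfl z
    have hc := H17.PullSect.bijective_app ((Scheme.Modules.pullbackComp g J.subschemeι).inv.app L)
      ((g ≫ J.subschemeι) ⁻¹ᵁ ⊤)
    obtain ⟨m, hm⟩ := hq (((Scheme.Modules.pullbackComp g J.subschemeι).inv.app L).app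
      ((g ≫ J.subschemeι) ⁻¹ᵁ ⊤) z)
    obtain ⟨x, hx⟩ := hs m
    refine ⟨x, hc.1 ?_⟩
    refine (H17.PullSect.pullSect_comp g J.subschemeι L ⊤ x).trans ?_
    exact (congrArg (OmegaSh.pullSect g _ (⊤ : J.subscheme.Opens)) hx).trans hm
  exact key _ (Scheme.IdealSheafData.inclusion_subschemeι h) z

theorem exists_split {J₁ J₂ : X.IdealSheafData} [IsAffine (J₁ ⊓ J₂).subscheme]
    (hs : Function.Surjective (TautSh.resSect (J₁ ⊓ J₂) L)) (x : Γ(L, (⊤ : X.Opens)))
    (hx : TautSh.resSect (J₁ ⊔ J₂) L x = 0) :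
    ∃ x₁ x₂ : Γ(L, (⊤ : X.Opens)), TautSh.resSect J₁ L x₁ = 0 ∧ TautSh.resSect J₂ L x₂ = 0 ∧
      TautSh.resSect (J₁ ⊓ J₂) L (x - x₁ - x₂) = 0 := by
  let W := (J₁ ⊓ J₂).subscheme
  let w := (J₁ ⊓ J₂).subschemeι
  let M := (pull w).obj L
  haveI hM : M.IsQuasicoherent := H29Fitt.isQCoh_pullback w L hL
  have h₁ : J₁ ⊓ J₂ ≤ J₁ := inf_le_left
  have h₂ : J₁ ⊓ J₂ ≤ J₂ := inf_le_right
  let i₁ := Scheme.IdealSheafData.inclusion h₁
  let i₂ := Scheme.IdealSheafData.inclusion h₂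
  let 𝔞₁ := RingHom.ker (i₁.app ⊤).hom
  let 𝔞₂ := RingHom.ker (i₂.app ⊤).hom
  let K : W.IdealSheafData := .ofIdealTop (𝔞₁ ⊔ 𝔞₂)
  have hi : ∀ (J : X.IdealSheafData) (h : J₁ ⊓ J₂ ≤ J),
      RingHom.ker ((Scheme.IdealSheafData.inclusion h).app ⊤).hom ≤ 𝔞₁ ⊔ 𝔞₂ →
        J ≤ (K.subschemeι ≫ w).ker := by
    intro J h hle
    haveI := isClosedImmersion_inclusion h
    have hk : (Scheme.IdealSheafData.inclusion h).ker ≤ K.subschemeι.ker := by
      rw [K.ker_subschemeι]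
      refine Scheme.IdealSheafData.le_of_isAffine ?_
      have hK' : K.ideal ⟨⊤, isAffineOpen_top W⟩ = 𝔞₁ ⊔ 𝔞₂ :=
        (Scheme.IdealSheafData.equivOfIsAffine (X := W)).apply_symm_apply _
      rw [Scheme.Hom.ker_apply, hK']
      exact hle
    obtain ⟨l, hl⟩ : ∃ l, l ≫ Scheme.IdealSheafData.inclusion h = K.subschemeι :=
      ⟨IsClosedImmersion.lift _ _ hk, IsClosedImmersion.lift_fac _ _ _⟩
    refine (H27HilbOps.exists_lift_subschemeι_iff J _).1 ⟨l, ?_⟩
    rw [← hl, Category.assoc, Scheme.IdealSheafData.inclusion_subschemeι]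
  have hsup : J₁ ⊔ J₂ ≤ (K.subschemeι ≫ w).ker := sup_le (hi J₁ h₁ le_sup_left) (hi J₂ h₂ le_sup_right)
  let l := IsClosedImmersion.lift (J₁ ⊔ J₂).subschemeι (K.subschemeι ≫ w)
    ((J₁ ⊔ J₂).ker_subschemeι.trans_le hsup)
  have hKx : OmegaSh.pullSect K.subschemeι M ⊤ (OmegaSh.pullSect w L ⊤ x) = 0 := by
    refine (pullSect_comp_eq_zero_iff K.subschemeι w L x).1 ?_
    refine (pullSect_congr_iff (IsClosedImmersion.lift_fac (J₁ ⊔ J₂).subschemeι (K.subschemeι ≫ w)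
      ((J₁ ⊔ J₂).ker_subschemeι.trans_le hsup)) L x).1 ?_
    exact (pullSect_comp_eq_zero_iff l _ L x).2
      ((congrArg _ (show OmegaSh.pullSect (J₁ ⊔ J₂).subschemeι L ⊤ x = 0 from hx)).trans (map_zero _))
  have hmem := (H17.PullSect.isQuot_of_isAffine K.subschemeι M hM).2 _ hKx
  have hker : RingHom.ker (K.subschemeι.app ⊤).hom = 𝔞₁ ⊔ 𝔞₂ := by
    exact (K.ker_subschemeι_app ⟨⊤, isAffineOpen_top W⟩).trans
      ((Scheme.IdealSheafData.equivOfIsAffine (X := W)).apply_symm_apply _)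
  rw [hker, Submodule.sup_smul, Submodule.mem_sup] at hmem
  obtain ⟨y₁, hy₁, y₂, hy₂, hy⟩ := hmem
  obtain ⟨x₁, hx₁⟩ := hs y₁
  obtain ⟨x₂, hx₂⟩ := hs y₂
  have hvan : ∀ (J : X.IdealSheafData) (h : J₁ ⊓ J₂ ≤ J) (y : Γ(M, (⊤ : W.Opens))) (z : Γ(L, (⊤ : X.Opens))),
      y ∈ RingHom.ker ((Scheme.IdealSheafData.inclusion h).app ⊤).hom • (⊤ : Submodule Γ(W, ⊤) Γ(M, (⊤ : W.Opens))) →
      TautSh.resSect (J₁ ⊓ J₂) L z = y → TautSh.resSect J L z = 0 := by
    intro J h y z hy hz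
    have h0 : OmegaSh.pullSect (Scheme.IdealSheafData.inclusion h) M ⊤ y = 0 := by
      refine Submodule.smul_induction_on hy (fun r hr m _ => ?_) (fun a b ha hb => by rw [map_add, ha, hb, add_zero])
      rw [OmegaSh.pullSect_smul, show (Scheme.IdealSheafData.inclusion h).app ⊤ r = 0 from hr, zero_smul]
    have := (pullSect_comp_eq_zero_iff (Scheme.IdealSheafData.inclusion h) w L z).2
      ((congrArg _ (show OmegaSh.pullSect w L ⊤ z = y from hz)).trans h0)
    exact (pullSect_congr_iff (Scheme.IdealSheafData.inclusion_subschemeι h) L z).1 this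
  refine ⟨x₁, x₂, hvan J₁ h₁ y₁ x₁ hy₁ hx₁, hvan J₂ h₂ y₂ x₂ hy₂ hx₂, ?_⟩
  rw [map_sub, map_sub, hx₁, hx₂]
  exact sub_sub (OmegaSh.pullSect w L ⊤ x) y₁ y₂ ▸ sub_eq_zero.2 hy.symm

end Groth.Agent.H10Coh.Secant
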